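import Mathlib
import Cfsg.Agent.Lib.Coprime.Generation
import Cfsg.Agent.Solvable.Thompson

/-!
Camina pairs: a Camina pair `(G, N)` is Frobenius, or `N` is a `p`-group, or `G / N` is a
`p`-group. The proof works inside a minimal supplement of `N`.
-/

set_option autoImplicit false

namespace Cfsg.Agent.SolvStruct.Camina

open scoped IsMulCommutative

variable {G Q : Type*} [Group G] [Group Q]

/-- Orbit counting for conjugation by a subgroup. -/
theorem card_eq_ncard_mul [Finite G] (K : Subgroup G) (g : G) :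
    Nat.card K = ((fun k => k * g * k⁻¹) '' (K : Set G)).ncard *
      Nat.card ↥(K ⊓ Subgroup.centralizer {g}) := by
  classical
  let S := (fun k => k * g * k⁻¹) '' (K : Set G)
  have hs : ∀ s : S, ∃ k : K, (k : G) * g * (k : G)⁻¹ = s := by
    rintro ⟨_, k, hk, rfl⟩; exact ⟨⟨k, hk⟩, rfl⟩
  choose s hs' using hs
  rw [← Nat.card_coe_set_eq, ← Nat.card_prod]
  refine Nat.card_eq_of_bijective
    (fun k : K => ((⟨(k : G) * g * (k : G)⁻¹, k, k.2, rfl⟩ : S),
      (⟨(s ⟨(k : G) * g * (k : G)⁻¹, k, k.2, rfl⟩ : G)⁻¹ * k, by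
        refine Subgroup.mem_inf.mpr ⟨mul_mem (inv_mem (s _).2) k.2,
          Subgroup.mem_centralizer_singleton_iff.mpr ?_⟩
        have h := hs' ⟨(k : G) * g * (k : G)⁻¹, k, k.2, rfl⟩
        set t := (s ⟨(k : G) * g * (k : G)⁻¹, k, k.2, rfl⟩ : G)
        have h1 : t⁻¹ * ((k : G) * g * (k : G)⁻¹) * t = g := by
          simp only at h; rw [← h]; group
        calc t⁻¹ * k * g = t⁻¹ * ((k : G) * g * (k : G)⁻¹) * t * (t⁻¹ * k) := by group
          _ = g * (t⁻¹ * k) := by rw [h1]⟩ : ↥(K ⊓ Subgroup.centralizer {g}))))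
    ⟨?_, ?_⟩
  · rintro a b hab
    simp only [Prod.mk.injEq] at hab
    obtain ⟨h1, h2⟩ := hab
    have h3 := congrArg Subtype.val h2
    simp only at h3
    rw [h1] at h3
    exact Subtype.ext (mul_left_cancel h3)
  · rintro ⟨x, c⟩
    obtain ⟨hcK, hcC⟩ := Subgroup.mem_inf.mp c.2
    refine ⟨⟨s x * c, mul_mem (s x).2 hcK⟩, ?_⟩
    have hx : ((s x : G) * c) * g * ((s x : G) * c)⁻¹ = x := by
      rw [← hs' x, mul_inv_rev, mul_assoc (s x : G), Subgroup.mem_centralizer_singleton_iff.mp hcC]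
      group
    refine Prod.ext (Subtype.ext hx) (Subtype.ext ?_)
    dsimp only
    rw [show (⟨_, (s x : G) * c, mul_mem (s x).2 hcK, rfl⟩ : S) = x from Subtype.ext hx, inv_mul_cancel_left]

/-- A nontrivial normal subgroup of a nilpotent group meets the center. -/
theorem exists_mem_center {H : Type*} [Group H] [Group.IsNilpotent H] (K : Subgroup H) [K.Normal]
    (hK : K ≠ ⊥) : ∃ z ∈ K, z ≠ 1 ∧ z ∈ Subgroup.center H := by
  classical
  obtain ⟨x, hxK, hx⟩ := (Subgroup.bot_or_exists_ne_one K).resolve_left hK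
  obtain ⟨n, hn⟩ := Group.IsNilpotent.nilpotent H
  have hex : ∃ i, ∃ z ∈ K, z ≠ 1 ∧ z ∈ Subgroup.upperCentralSeries H i :=
    ⟨n, x, hxK, hx, hn ▸ Subgroup.mem_top x⟩
  obtain ⟨z, hzK, hz1, hz⟩ := Nat.find_spec hex
  refine ⟨z, hzK, hz1, Subgroup.mem_center_iff.mpr fun y => ?_⟩
  by_contra hy
  rcases hi : Nat.find hex with _ | i
  · rw [hi, Subgroup.upperCentralSeries_zero, Subgroup.mem_bot] at hz
    exact hz1 hz
  · rw [hi, Subgroup.mem_upperCentralSeries_succ_iff] at hz
    refine Nat.find_min hex (by omega : i < Nat.find hex)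
      ⟨z * y * z⁻¹ * y⁻¹, ?_, ?_, hz y⟩
    · rw [show z * y * z⁻¹ * y⁻¹ = z * (y * z⁻¹ * y⁻¹) by group]
      exact mul_mem hzK (Subgroup.Normal.conj_mem inferInstance _ (inv_mem hzK) y)
    · intro h
      rw [mul_inv_eq_one, mul_inv_eq_iff_eq_mul] at h
      exact hy h.symm

/-- Every `p`-element of a quotient lifts to a `p`-element. -/
theorem exists_lift [Finite G] (f : G →* Q) (hf : Function.Surjective f) {p : ℕ} (hp : p.Prime)
    (y : Q) {a : ℕ} (hy : orderOf y = p ^ a) : ∃ (g : G) (b : ℕ), f g = y ∧ orderOf g = p ^ b := by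
  have := Fact.mk hp
  obtain ⟨g₀, rfl⟩ := hf y
  obtain ⟨b, m, hm, hord⟩ := Nat.exists_eq_pow_mul_and_not_dvd (orderOf_pos g₀).ne' p hp.ne_one
  have hcop : m.Coprime (p ^ a) := ((hp.coprime_iff_not_dvd.mpr hm).symm).pow_right _
  obtain ⟨u, hu⟩ := Nat.exists_mul_mod_eq_of_coprime 1 hcop (pow_ne_zero _ hp.ne_zero)
  have hpow : (g₀ ^ (m * u)) ^ p ^ b = 1 := by
    rw [← pow_mul, mul_comm (m * u), ← mul_assoc, ← hord, pow_mul, pow_orderOf_eq_one, one_pow]
  obtain ⟨c, -, hc⟩ := (Nat.dvd_prime_pow hp).mp (orderOf_dvd_of_pow_eq_one hpow)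
  refine ⟨g₀ ^ (m * u), c, ?_, hc⟩
  rw [map_pow]
  conv_rhs => rw [← pow_one (f g₀)]
  rw [pow_inj_mod, hy]
  exact hu.2

/-- The nilpotent case. -/
theorem false_of_nilpotent [Finite G] [Finite Q] (f : G →* Q) (hf : Function.Surjective f)
    [hnil : Group.IsNilpotent f.ker]
    (hcard : ∀ g : G, f g ≠ 1 →
      Nat.card (Subgroup.centralizer ({g} : Set G)) = Nat.card (Subgroup.centralizer ({f g} : Set Q)))
    (hord : ∀ g : G, f g ≠ 1 → ∀ n ∈ f.ker, g * n = n * g → orderOf (g * n) = orderOf g)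
    {p l : ℕ} (hp : p.Prime) (hl : l.Prime) (hpl : p ≠ l) (hpN : p ∣ Nat.card f.ker)
    (hlN : l ∣ Nat.card f.ker) (hpQ : p ∣ Nat.card Q) : False := by
  classical
  have := Fact.mk hp
  have := Fact.mk hl
  -- central elements of prime order
  have hcen : ∀ q : ℕ, q.Prime → q ∣ Nat.card f.ker →
      ∃ z : G, z ∈ f.ker ∧ orderOf z = q ∧ ∀ n ∈ f.ker, n * z = z * n := by
    intro q hq hqN
    have := Fact.mk hq
    have hS := (Group.isNilpotent_of_finite_tfae (G := f.ker)).out 0 3
    let S : Sylow q f.ker := default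
    haveI : (S : Subgroup f.ker).Normal := (hS.mp hnil) q this S
    obtain ⟨z, hzS, hz1, hzc⟩ := exists_mem_center (S : Subgroup f.ker) (S.ne_bot_of_dvd_card hqN)
    obtain ⟨k, hk⟩ := S.2 ⟨z, hzS⟩
    have hk' : z ^ q ^ k = 1 := congrArg Subtype.val hk
    obtain ⟨j, -, hj⟩ := (Nat.dvd_prime_pow hq).mp (orderOf_dvd_of_pow_eq_one hk')
    have hj0 : j ≠ 0 := fun h => hz1 (orderOf_eq_one_iff.mp (by rw [hj, h, pow_zero]))
    obtain ⟨w, hw, hwo⟩ := show ∃ w ∈ Subgroup.center f.ker, orderOf w = q from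
      ⟨z ^ q ^ (j - 1), pow_mem hzc _, by
        rw [orderOf_pow' z (pow_ne_zero _ hq.ne_zero), hj,
          Nat.gcd_eq_right (pow_dvd_pow q (Nat.sub_le j 1)),
          Nat.pow_div (Nat.sub_le j 1) hq.pos]
        conv_rhs => rw [← pow_one q]
        congr 1; omega⟩
    exact ⟨w, w.2, (Subgroup.orderOf_coe w).trans hwo, fun n hn =>
      congrArg Subtype.val (Subgroup.mem_center_iff.mp hw ⟨n, hn⟩)⟩
  -- `p`-elements outside centralize no element of order `l`
  have hno : ∀ (g : G) (b : ℕ), orderOf g = p ^ b → f g ≠ 1 →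
      ∀ n ∈ f.ker, orderOf n = l → g * n ≠ n * g := by
    intro g b hg hg1 n hn hnl hc
    have h := hord g hg1 n hn hc
    rw [Commute.orderOf_mul_eq_mul_orderOf_of_coprime hc
      (by rw [hg, hnl]; exact ((Nat.coprime_primes hp hl).mpr hpl).pow_left _), hnl] at h
    nlinarith [orderOf_pos g, hl.two_le]
  -- the elementary abelian central `q`-parts
  let V : ℕ → Subgroup G := fun q =>
    { carrier := {v | v ∈ f.ker ∧ v ^ q = 1 ∧ ∀ n ∈ f.ker, n * v = v * n}
      one_mem' := ⟨one_mem _, one_pow _, fun n _ => by simp⟩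
      mul_mem' := fun {a b} ha hb => ⟨mul_mem ha.1 hb.1, by
        rw [(show Commute a b from ha.1 |> hb.2.2 a).mul_pow, ha.2.1, hb.2.1, one_mul], fun n hn => by
        rw [← mul_assoc, ha.2.2 n hn, mul_assoc, hb.2.2 n hn, mul_assoc]⟩
      inv_mem' := fun {a} ha => ⟨inv_mem ha.1, by rw [inv_pow, ha.2.1, inv_one], fun n hn =>
        (show Commute n a from ha.2.2 n hn).inv_right.eq⟩ }
  have hVn : ∀ q, (V q).Normal := by
    intro q
    refine ⟨fun v hv g => ⟨(f.normal_ker).conj_mem v hv.1 g, ?_, fun n hn => ?_⟩⟩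
    · rw [conj_pow, hv.2.1, mul_one, mul_inv_cancel]
    · have h := hv.2.2 (g⁻¹ * n * g) (by simpa using (f.normal_ker).conj_mem n hn g⁻¹)
      calc n * (g * v * g⁻¹) = g * (g⁻¹ * n * g * v) * g⁻¹ := by group
        _ = g * (v * (g⁻¹ * n * g)) * g⁻¹ := by rw [h]
        _ = g * v * g⁻¹ * n := by group
  haveI := hVn l
  haveI : IsMulCommutative (V l) := ⟨⟨fun a b => Subtype.ext (b.2.2.2 a a.2.1)⟩⟩
  let φ : G →* MulAut (V l) := MulAut.conjNormal
  have hker : f.ker ≤ φ.ker := by
    intro n hn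
    rw [MonoidHom.mem_ker]
    refine MulEquiv.ext fun v => Subtype.ext ?_
    simp only [φ, MulAut.conjNormal_apply, MulAut.one_apply]
    rw [v.2.2.2 n hn, mul_inv_cancel_right]
  let ρ : Q →* MulAut (V l) := f.liftOfSurjective hf ⟨φ, hker⟩
  have hρ : ∀ g, ρ (f g) = φ g := fun g => MonoidHom.liftOfRightInverse_comp_apply f _ _ ⟨φ, hker⟩ g
  -- abelian `p`-subgroups of `Q` are cyclic
  have hcyc : ∀ A : Subgroup Q, IsPGroup p A → IsMulCommutative A → IsCyclic A := by
    intro A hA hAc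
    haveI := hAc
    by_contra hn
    obtain ⟨q, hq, x, y, hx1, hx, hy, hyx⟩ := Coprime.exists_two_independent_of_not_isCyclic A hn
    have := Fact.mk hq
    have hqp : q = p := by
      obtain ⟨k, hk⟩ := hA x
      have h := orderOf_eq_prime hx hx1
      have h2 := orderOf_dvd_of_pow_eq_one hk
      rw [h] at h2
      exact (Nat.prime_dvd_prime_iff_eq hq hp).mp (hq.dvd_of_dvd_pow h2)
    subst hqp
    obtain ⟨z, hzN, hzo, hzc⟩ := hcen l hl hlN
    have hzV : z ∈ V l := ⟨hzN, hzo ▸ pow_orderOf_eq_one z, hzc⟩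
    have hv := Coprime.pow_mem_of_fixed_mem (ρ.comp A.subtype) ⊥ hq (mul_comm y x : Commute y x)
      hx hy hx1 ?_ ?_ (⟨z, hzV⟩ : V l)
    · rw [Subgroup.mem_bot] at hv
      have h : z ^ q = 1 := congrArg Subtype.val hv
      have h2 := orderOf_dvd_of_pow_eq_one h
      rw [hzo] at h2
      exact hpl ((Nat.prime_dvd_prime_iff_eq hl hq).mp h2).symm
    · intro j hj
      refine hyx ?_
      rw [eq_inv_of_mul_eq_one_left hj]
      exact inv_mem (pow_mem (Subgroup.mem_zpowers x) j)
    · intro e v he hev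
      rw [Subgroup.mem_bot]
      by_contra hv1
      obtain ⟨k, hk⟩ := hA e
      obtain ⟨a, -, ha⟩ := (Nat.dvd_prime_pow hq).mp (orderOf_dvd_of_pow_eq_one hk)
      obtain ⟨g, b, hg, hgb⟩ := exists_lift f hf hq (e : Q) (by rw [Subgroup.orderOf_coe]; exact ha)
      have hg1 : f g ≠ 1 := by rw [hg]; exact fun h => he (Subtype.ext h)
      have hfix : φ g v = v := by rw [← hρ, hg]; exact hev
      have hfix' : g * (v : G) * g⁻¹ = v := congrArg Subtype.val hfix
      refine hno g b hgb hg1 v v.2.1 ?_ (mul_inv_eq_iff_eq_mul.mp hfix')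
      exact orderOf_eq_prime v.2.2.1 (fun h => hv1 (Subtype.ext h))
  -- an element of maximal `p`-power order
  let S : Set Q := {y | ∃ a, orderOf y = p ^ a}
  obtain ⟨x₀, hx₀, hmax⟩ := Set.exists_max_image S orderOf S.toFinite ⟨1, 0, by simp⟩
  obtain ⟨a, ha⟩ := hx₀
  obtain ⟨y₀, hy₀⟩ := exists_prime_orderOf_dvd_card' p hpQ
  have hx1 : x₀ ≠ 1 := by
    rintro rfl
    have h := hmax y₀ ⟨1, by rw [hy₀, pow_one]⟩
    rw [hy₀, orderOf_one] at h
    exact absurd h (by have := hp.two_le; omega)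
  obtain ⟨x, b, hx, hxb⟩ := exists_lift f hf hp x₀ ha
  set C := Subgroup.centralizer ({x₀} : Set Q) with hC
  obtain ⟨T, hT⟩ := IsPGroup.exists_le_sylow (p := p)
    (P := (Subgroup.zpowers x₀).subgroupOf C) (by
      refine IsPGroup.comap_subtype (IsPGroup.of_card (n := a) ?_)
      rw [Nat.card_zpowers, ha])
  have hxC : x₀ ∈ C := Subgroup.mem_centralizer_singleton_iff.mpr rfl
  have hTle : (T : Subgroup C).map C.subtype ≤ Subgroup.zpowers x₀ := by
    rintro _ ⟨y, hy, rfl⟩
    set Tm := (T : Subgroup C).map C.subtype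
    let A := Subgroup.closure ({x₀, (y : Q)} : Set Q)
    have hAT : A ≤ Tm := (Subgroup.closure_le _).mpr (by
      intro u hu
      rcases hu with hu | hu
      · exact ⟨⟨x₀, hxC⟩, hT (Subgroup.mem_zpowers x₀), hu.symm⟩
      · exact ⟨y, hy, hu.symm⟩)
    have hyc : (y : Q) * x₀ = x₀ * y := Subgroup.mem_centralizer_singleton_iff.mp y.2
    have hAc : IsMulCommutative A := by
      refine Subgroup.isMulCommutative_closure ?_
      rintro u (rfl | rfl) v (rfl | rfl) <;> simp [hyc]
    have hAp : IsPGroup p A := (T.2.map C.subtype).to_le hAT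
    obtain ⟨⟨w, hwA⟩, hw⟩ := (hcyc A hAp hAc).exists_generator
    have hxw : x₀ ∈ Subgroup.zpowers w := by
      obtain ⟨k, hk⟩ := hw ⟨x₀, Subgroup.subset_closure (Set.mem_insert _ _)⟩
      exact ⟨k, congrArg Subtype.val hk⟩
    have hyw : (y : Q) ∈ Subgroup.zpowers w := by
      obtain ⟨k, hk⟩ := hw ⟨y, Subgroup.subset_closure (Set.mem_insert_of_mem _ rfl)⟩
      exact ⟨k, congrArg Subtype.val hk⟩
    obtain ⟨k, hk⟩ := hAp ⟨w, hwA⟩
    obtain ⟨c, -, hc⟩ := (Nat.dvd_prime_pow hp).mp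
      (orderOf_dvd_of_pow_eq_one (congrArg Subtype.val hk : w ^ p ^ k = 1))
    have h := Subgroup.eq_of_le_of_card_ge (Subgroup.zpowers_le.mpr hxw)
      (by rw [Nat.card_zpowers, Nat.card_zpowers]; exact hmax w ⟨c, hc⟩)
    rw [h]; exact hyw
  have hTcard : Nat.card T ∣ p ^ a := by
    have h := Subgroup.card_dvd_of_le hTle
    rwa [Nat.card_zpowers, ha, Subgroup.card_map_of_injective C.subtype_injective] at h
  rw [T.card_eq_multiplicity, Nat.pow_dvd_pow_iff_le_right hp.one_lt, hC, ← hx, ← hcard x (hx ▸ hx1)] at hTcard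
  have hbnd : ∀ B : Subgroup G, B ≤ Subgroup.centralizer {x} → IsPGroup p B → Nat.card B ≤ p ^ a := by
    intro B hB hBp
    obtain ⟨k, hk⟩ := IsPGroup.iff_card.mp hBp
    rw [hk]
    refine Nat.pow_le_pow_right hp.pos (le_trans ?_ hTcard)
    exact (hp.pow_dvd_iff_le_factorization Nat.card_pos.ne').mp (hk ▸ Subgroup.card_dvd_of_le hB)
  obtain ⟨z₀, hz₀N, hz₀o, hz₀c⟩ := hcen p hp hpN
  have hVp : IsPGroup p (V p) := fun v => ⟨1, Subtype.ext (by simpa using v.2.2.1)⟩
  obtain ⟨P, hP⟩ := IsPGroup.exists_le_sylow (p := p) (P := Subgroup.zpowers x)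
    (IsPGroup.of_card (n := b) (by rw [Nat.card_zpowers, hxb]))
  haveI := hVn p
  have hVP : V p ≤ (P : Subgroup G) := by
    have h := P.2.to_sup_of_normal_right hVp
    exact le_sup_right.trans (P.3 h le_sup_left).le
  haveI : Group.IsNilpotent (P : Subgroup G) := P.2.isNilpotent
  haveI : ((V p).subgroupOf (P : Subgroup G)).Normal := Subgroup.normal_subgroupOf
  have hz₀V : z₀ ∈ V p := ⟨hz₀N, hz₀o ▸ pow_orderOf_eq_one z₀, hz₀c⟩
  have hVne : (V p).subgroupOf (P : Subgroup G) ≠ ⊥ := by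
    intro h
    have h1 : (⟨z₀, hVP hz₀V⟩ : (P : Subgroup G)) ∈ (V p).subgroupOf (P : Subgroup G) := hz₀V
    rw [h, Subgroup.mem_bot, Subgroup.mk_eq_one] at h1
    rw [h1, orderOf_one] at hz₀o
    exact hp.one_lt.ne hz₀o
  obtain ⟨⟨z, hzP⟩, hzV, hz1, hzc⟩ := exists_mem_center ((V p).subgroupOf (P : Subgroup G)) hVne
  have hzx : x * z = z * x := congrArg Subtype.val
    (Subgroup.mem_center_iff.mp hzc ⟨x, hP (Subgroup.mem_zpowers x)⟩)
  let B := Subgroup.zpowers x ⊔ Subgroup.zpowers z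
  have hBC : B ≤ Subgroup.centralizer {x} := sup_le
    (Subgroup.zpowers_le.mpr (Subgroup.mem_centralizer_singleton_iff.mpr rfl))
    (Subgroup.zpowers_le.mpr (Subgroup.mem_centralizer_singleton_iff.mpr hzx.symm))
  have hBP : IsPGroup p B := P.2.to_le (sup_le hP (Subgroup.zpowers_le.mpr hzP))
  have hlt : Subgroup.zpowers x < B := by
    refine lt_of_le_of_ne le_sup_left fun h => ?_
    have hzx' : z ∈ Subgroup.zpowers x := h ▸ Subgroup.mem_sup_right (Subgroup.mem_zpowers z)
    obtain ⟨k, rfl⟩ := hzx'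
    have hfz : f x ^ k = 1 := by rw [← map_zpow]; exact hzV.1
    have hd : (orderOf x : ℤ) ∣ k := by
      have h1 := hbnd _ (le_sup_left.trans hBC) (hBP.to_le le_sup_left)
      rw [Nat.card_zpowers] at h1
      have h2 : orderOf x = p ^ a := le_antisymm h1 (by
        rw [← ha, ← hx]; exact Nat.le_of_dvd (orderOf_pos x) (orderOf_map_dvd f x))
      rw [h2, ← ha, ← hx]
      exact orderOf_dvd_iff_zpow_eq_one.mpr hfz
    exact hz1 (Subtype.ext (orderOf_dvd_iff_zpow_eq_one.mp hd))
  have h1 := hbnd B hBC hBP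
  have h2 := Set.ncard_lt_ncard (SetLike.coe_ssubset_coe.mpr hlt)
  rw [← Nat.card_coe_set_eq, ← Nat.card_coe_set_eq] at h2
  change Nat.card (Subgroup.zpowers x) < Nat.card B at h2
  rw [Nat.card_zpowers] at h2
  have h3 : p ^ a ≤ orderOf x := by
    rw [← ha, ← hx]; exact Nat.le_of_dvd (orderOf_pos x) (orderOf_map_dvd f x)
  omega

/-- Camina's trichotomy. -/
theorem trichotomy [Finite G] (N : Subgroup G) [N.Normal] (hN1 : N ≠ ⊥) (hN2 : N ≠ ⊤)
    (hcam : ∀ g : G, g ∉ N → ∀ n ∈ N, ∃ x : G, x * g * x⁻¹ = g * n) :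
    (∀ x ∈ N, x ≠ 1 → Subgroup.centralizer ({x} : Set G) ≤ N) ∨ IsPrimePow (Nat.card N) ∨
      IsPrimePow N.index := by
  classical
  by_contra hcon
  push Not at hcon
  obtain ⟨⟨n, hnN, hn1, hnle⟩, hNpp, hQpp⟩ := hcon
  obtain ⟨c, hcn, hcN⟩ := SetLike.not_le_iff_exists.mp hnle
  set f := QuotientGroup.mk' N with hfdef
  have hker : f.ker = N := QuotientGroup.ker_mk' N
  have hf : Function.Surjective f := QuotientGroup.mk'_surjective N
  have hne : ∀ g, f g ≠ 1 ↔ g ∉ N := fun g => by rw [ne_eq, ← MonoidHom.mem_ker, hker]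
  have hord : ∀ g, g ∉ N → ∀ m ∈ N, g * m = m * g → orderOf (g * m) = orderOf g := by
    intro g hg m hm _
    obtain ⟨x, hx⟩ := hcam g hg m hm
    rw [← hx]
    exact (MulAut.conj x).orderOf_eq g
  have hcardG : ∀ g : G, g ∉ N → Nat.card (Subgroup.centralizer ({g} : Set G)) =
      Nat.card (Subgroup.centralizer ({f g} : Set (G ⧸ N))) := by
    intro g hg
    set T := (Subgroup.centralizer ({f g} : Set (G ⧸ N))).comap f
    have hCT : Subgroup.centralizer ({g} : Set G) ≤ T := by
      intro k hk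
      rw [Subgroup.mem_comap, Subgroup.mem_centralizer_singleton_iff, ← map_mul, ← map_mul,
        Subgroup.mem_centralizer_singleton_iff.mp hk]
    have himg : (fun k => k * g * k⁻¹) '' (T : Set G) = (fun m => g * m) '' (N : Set G) := by
      ext y
      constructor
      · rintro ⟨k, hk, rfl⟩
        refine ⟨g⁻¹ * (k * g * k⁻¹), ?_, mul_inv_cancel_left _ _⟩
        rw [SetLike.mem_coe, ← hker, MonoidHom.mem_ker]
        have := Subgroup.mem_centralizer_singleton_iff.mp (Subgroup.mem_comap.mp hk)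
        simp only [map_mul, map_inv]
        rw [this]; group
      · rintro ⟨m, hm, rfl⟩
        obtain ⟨x, hx⟩ := hcam g hg m hm
        refine ⟨x, ?_, hx⟩
        rw [SetLike.mem_coe, Subgroup.mem_comap, Subgroup.mem_centralizer_singleton_iff]
        have h : f (x * g * x⁻¹) = f g := by
          rw [hx, map_mul, show f m = 1 from MonoidHom.mem_ker.mp (hker.symm ▸ hm), mul_one]
        rw [map_mul, map_mul, map_inv] at h
        exact mul_inv_eq_iff_eq_mul.mp h
    have h := card_eq_ncard_mul T g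
    rw [himg, Set.ncard_image_of_injective _ (mul_right_injective g), inf_eq_right.mpr hCT,
      ← Nat.card_coe_set_eq] at h
    have hT : Nat.card T = Nat.card N * Nat.card (Subgroup.centralizer ({f g} : Set (G ⧸ N))) := by
      rw [← Subgroup.card_mul_index (f.ker.subgroupOf T)]
      congr 1
      · rw [Nat.card_congr (Subgroup.subgroupOfEquivOfLe (Subgroup.ker_le_comap f _)).toEquiv, hker]
      · change f.ker.relIndex T = _
        rw [Subgroup.relIndex_ker, Subgroup.map_comap_eq_self_of_surjective hf]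
    rw [hT] at h
    exact (Nat.eq_of_mul_eq_mul_left Nat.card_pos h).symm
  -- a common prime
  obtain ⟨p, hp, hpn⟩ := Nat.exists_prime_and_dvd (mt orderOf_eq_one_iff.mp hn1)
  have := Fact.mk hp
  have hpN : p ∣ Nat.card N := hpn.trans (Subgroup.orderOf_dvd_natCard N hnN)
  have hpQ : p ∣ N.index := by
    have h : n ∈ Subgroup.centralizer ({c} : Set G) := Subgroup.mem_centralizer_singleton_iff.mpr
      (Subgroup.mem_centralizer_singleton_iff.mp hcn).symm
    have h2 := hpn.trans (Subgroup.orderOf_dvd_natCard _ h)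
    rw [hcardG c hcN] at h2
    rw [Subgroup.index_eq_card]
    exact h2.trans (Subgroup.card_subgroup_dvd_card _)
  have hNne : Nat.card N ≠ 1 := mt Subgroup.card_eq_one.mp hN1
  have hother : ∀ m : ℕ, m ≠ 0 → m ≠ 1 → ¬ IsPrimePow m → ∀ q, q.Prime → ∃ r, r.Prime ∧ r ≠ q ∧ r ∣ m := by
    intro m h0 h1 hpp q hq
    by_contra h
    push Not at h
    have hm : m = q ^ m.primeFactorsList.length :=
      Nat.eq_prime_pow_of_unique_prime_dvd h0 fun {d} hd hdm => by
        by_contra hne
        exact h d hd hne hdm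
    refine hpp ⟨q, m.primeFactorsList.length, hq.prime, Nat.pos_of_ne_zero ?_, hm.symm⟩
    intro h'; rw [h', pow_zero] at hm; exact h1 hm
  -- a minimal supplement
  obtain ⟨M, hMN, hmin⟩ := (wellFounded_lt (α := Subgroup G)).has_min {M | M ⊔ N = ⊤} ⟨⊤, top_sup_eq N⟩
  change M ⊔ N = ⊤ at hMN
  let fM : M →* G ⧸ N := f.comp M.subtype
  have hfM : Function.Surjective fM := by
    intro q
    obtain ⟨g, rfl⟩ := hf q
    obtain ⟨m, hm, k, hk, rfl⟩ := Subgroup.mem_sup_of_normal_right.mp (hMN ▸ Subgroup.mem_top g)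
    refine ⟨⟨m, hm⟩, ?_⟩
    change f m = f (m * k)
    rw [map_mul, show f k = 1 from MonoidHom.mem_ker.mp (hker.symm ▸ hk), mul_one]
  have hkM : fM.ker = N.subgroupOf M := by
    rw [show fM = f.comp M.subtype from rfl, ← MonoidHom.comap_ker, hker]; rfl
  -- centralizers of outside elements lie in `M`
  have hCM : ∀ g ∈ M, g ∉ N → Subgroup.centralizer ({g} : Set G) ≤ M := by
    intro g hgM hg
    set D := (Subgroup.centralizer ({f g} : Set (G ⧸ N))).comap fM
    have hD : Nat.card D = Nat.card fM.ker * Nat.card (Subgroup.centralizer ({f g} : Set (G ⧸ N))) := by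
      rw [← Subgroup.card_mul_index (fM.ker.subgroupOf D)]
      congr 1
      · exact Nat.card_congr (Subgroup.subgroupOfEquivOfLe (Subgroup.ker_le_comap fM _)).toEquiv
      · change fM.ker.relIndex D = _
        rw [Subgroup.relIndex_ker, Subgroup.map_comap_eq_self_of_surjective hfM]
    have h := card_eq_ncard_mul D ⟨g, hgM⟩
    have himg : ((fun k : M => k * ⟨g, hgM⟩ * k⁻¹) '' (D : Set M)).ncard ≤ Nat.card fM.ker := by
      rw [show Nat.card fM.ker = (fM.ker : Set M).ncard from Nat.card_coe_set_eq _,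
        ← Set.ncard_image_of_injective (fM.ker : Set M) (mul_right_injective (⟨g, hgM⟩ : M))]
      refine Set.ncard_le_ncard ?_ (Set.toFinite _)
      rintro _ ⟨k, hk, rfl⟩
      refine ⟨(⟨g, hgM⟩ : M)⁻¹ * (k * ⟨g, hgM⟩ * k⁻¹), ?_, mul_inv_cancel_left _ _⟩
      rw [SetLike.mem_coe, MonoidHom.mem_ker]
      have hk' : fM k * f g = f g * fM k := Subgroup.mem_centralizer_singleton_iff.mp hk
      simp only [map_mul, map_inv]
      change (f g)⁻¹ * (fM k * f g * (fM k)⁻¹) = 1
      rw [hk']; group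
    have hle : Nat.card ↥(D ⊓ Subgroup.centralizer {(⟨g, hgM⟩ : M)}) ≤
        Nat.card ↥(M ⊓ Subgroup.centralizer {g}) := by
      refine Nat.card_le_card_of_injective (fun k => ⟨((k : M) : G), (k : M).2,
        Subgroup.mem_centralizer_singleton_iff.mpr (congrArg Subtype.val
          (Subgroup.mem_centralizer_singleton_iff.mp k.2.2))⟩) ?_
      intro a b hab
      exact Subtype.ext (Subtype.ext (congrArg (fun t : ↥(M ⊓ Subgroup.centralizer {g}) => (t : G)) hab))
    rw [hD] at h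
    have h2 : Nat.card fM.ker * Nat.card (Subgroup.centralizer ({f g} : Set (G ⧸ N))) ≤
        Nat.card fM.ker * Nat.card ↥(M ⊓ Subgroup.centralizer {g}) :=
      h.le.trans (Nat.mul_le_mul himg hle)
    rw [← hcardG g hg] at h2
    exact inf_eq_right.mp (Subgroup.eq_of_le_of_card_ge inf_le_right
      (Nat.le_of_mul_le_mul_left h2 Nat.card_pos))
  have hneM : ∀ g : M, fM g ≠ 1 → (g : G) ∉ N := fun g hg => (hne g).mp hg
  have hnilD : Group.IsNilpotent fM.ker := by
    have hle : fM.ker ≤ frattini M := by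
      refine le_iInf₂ fun W hW => ?_
      by_contra hW'
      have htop : W ⊔ fM.ker = ⊤ := hW.2 _ (left_lt_sup.mpr hW')
      have hlt : W.map M.subtype < M := by
        refine lt_of_le_of_ne (Subgroup.map_subtype_le W) fun h => hW.1 ?_
        rw [← Subgroup.comap_map_eq_self_of_injective M.subtype_injective W, h]
        rw [Subgroup.eq_top_iff']; intro m; exact m.2
      refine hmin _ ?_ hlt
      change W.map M.subtype ⊔ N = ⊤
      refine top_le_iff.mp (hMN ▸ sup_le ?_ le_sup_right)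
      calc M = (W ⊔ fM.ker).map M.subtype := by rw [htop, ← MonoidHom.range_eq_map, M.range_subtype]
        _ ≤ W.map M.subtype ⊔ N := by
          rw [Subgroup.map_sup, hkM]
          exact sup_le_sup le_rfl (Subgroup.map_comap_le _ _)
    haveI := frattini_nilpotent (G := M)
    exact Group.nilpotent_of_mulEquiv (Subgroup.subgroupOfEquivOfLe hle)
  -- `N` is nilpotent
  have hNnil : Group.IsNilpotent f.ker := by
    rw [hker]
    by_contra hnot
    have hall : ∀ r : ℕ, r.Prime → r ∣ N.index → r ∣ Nat.card fM.ker := by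
      intro r hr hrQ
      by_contra hrD
      have := Fact.mk hr
      have hrM : r ∣ Nat.card M := by
        rw [Subgroup.index_eq_card] at hrQ
        exact hrQ.trans (Subgroup.card_dvd_of_surjective fM hfM)
      obtain ⟨x, hx⟩ := exists_prime_orderOf_dvd_card' r hrM
      have hxN : (x : G) ∉ N := fun h => hrD (hx ▸ Subgroup.orderOf_dvd_natCard fM.ker
        (by rw [hkM]; exact h))
      refine hnot (Solvable.Thompson.isNilpotent_of_fixedPointFree
        (MulAut.conjNormal (x : G) : MulAut N) hr ?_ ?_)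
      · intro m hm
        by_contra hm1
        have hc : (x : G) * m = m * x := by
          have := congrArg Subtype.val hm
          rw [MulAut.conjNormal_apply] at this
          exact mul_inv_eq_iff_eq_mul.mp this
        have hmM : (m : G) ∈ M := hCM x x.2 hxN (Subgroup.mem_centralizer_singleton_iff.mpr hc.symm)
        obtain ⟨s, hs, hsm⟩ := Nat.exists_prime_and_dvd (mt orderOf_eq_one_iff.mp hm1)
        have hsr : s ≠ r := fun h => hrD (h ▸ hsm.trans (by
          rw [← Subgroup.orderOf_coe m]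
          exact (Subgroup.orderOf_mk (m : G) hmM) ▸ Subgroup.orderOf_dvd_natCard fM.ker
            (by rw [hkM]; exact m.2)))
        rw [← Subgroup.orderOf_coe] at hsm
        set m' := (m : G) ^ (orderOf (m : G) / s)
        have hm'o : orderOf m' = s := by
          exact orderOf_pow_orderOf_div (orderOf_pos (m : G)).ne' hsm
        have hc' : Commute (x : G) m' := Commute.pow_right hc _
        have h := hord x hxN m' (pow_mem m.2 _) hc'
        rw [hc'.orderOf_mul_eq_mul_orderOf_of_coprime (by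
          rw [hm'o, Subgroup.orderOf_coe, hx]; exact (Nat.coprime_primes hr hs).mpr hsr.symm), hm'o] at h
        nlinarith [orderOf_pos (x : G), hs.two_le]
      · rw [← map_pow, ← Subgroup.coe_pow, ← hx, pow_orderOf_eq_one, Subgroup.coe_one, map_one]
    obtain ⟨r, hr, hrp, hrQ⟩ := hother N.index Subgroup.index_ne_zero_of_finite
      (mt Subgroup.index_eq_one.mp hN2) hQpp p hp
    haveI := hnilD
    refine false_of_nilpotent fM hfM (fun g hg => ?_) (fun g hg m hm hc => ?_) hp hr hrp.symm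
      (hall p hp hpQ) (hall r hr hrQ) (Subgroup.index_eq_card N ▸ hpQ)
    · rw [show fM g = f (g : G) from rfl, ← hcardG _ (hneM g hg)]
      refine Nat.card_congr (Equiv.ofBijective (fun k => ⟨((k : M) : G),
        Subgroup.mem_centralizer_singleton_iff.mpr (congrArg Subtype.val
          (Subgroup.mem_centralizer_singleton_iff.mp k.2))⟩) ⟨?_, ?_⟩)
      · intro a b hab
        exact Subtype.ext (Subtype.ext (congrArg (fun t : ↥(Subgroup.centralizer {(g : G)}) => (t : G)) hab))
      · rintro ⟨k, hk⟩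
        exact ⟨⟨⟨k, hCM g g.2 (hneM g hg) hk⟩, Subgroup.mem_centralizer_singleton_iff.mpr
          (Subtype.ext (Subgroup.mem_centralizer_singleton_iff.mp hk))⟩, rfl⟩
    · rw [← Subgroup.orderOf_coe, ← Subgroup.orderOf_coe]
      exact hord g (hneM g hg) m (by rw [hkM] at hm; exact hm) (congrArg Subtype.val hc)
  obtain ⟨l, hl, hlp, hlN⟩ := hother (Nat.card N) Nat.card_pos.ne' hNne hNpp p hp
  haveI := hNnil
  exact false_of_nilpotent f hf (fun g hg => hcardG g ((hne g).mp hg))
    (fun g hg m hm => hord g ((hne g).mp hg) m (hker ▸ hm)) hp hl hlp.symm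
    (hker.symm ▸ hpN) (hker.symm ▸ hlN) (Subgroup.index_eq_card N ▸ hpQ)

end Cfsg.Agent.SolvStruct.Camina
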